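import Mathlib

/-!
# Flatness over a regular integral scheme of dimension at most one
-/

set_option autoImplicit false
set_option linter.all false
universe u
open CategoryTheory AlgebraicGeometry IsLocalRing

namespace FlatDedLib

theorem isBezout_stalk {Y : Scheme.{u}} [IsIntegral Y]
    (hreg : ∀ y : Y, IsRegularLocalRing (Y.presheaf.stalk y)) (hdim : topologicalKrullDim Y ≤ 1)
    (y : Y) : IsBezout (Y.presheaf.stalk y) := by
  haveI := hreg y
  have h1 : ringKrullDim (Y.presheaf.stalk y) ≤ 1 := by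
    rw [← PrimeSpectrum.topologicalKrullDim_eq_ringKrullDim]
    exact ((Y.fromSpecStalk y).isEmbedding.isInducing.topologicalKrullDim_le).trans hdim
  have h2 : Module.finrank (ResidueField (Y.presheaf.stalk y)) (CotangentSpace (Y.presheaf.stalk y)) ≤ 1 := by
    have h := IsRegularLocalRing.spanFinrank_maximalIdeal (R := Y.presheaf.stalk y)
    rw [spanFinrank_maximalIdeal_eq_finrank_cotangentSpace] at h
    rw [← h] at h1
    exact_mod_cast h1
  haveI : IsPrincipalIdealRing (Y.presheaf.stalk y) :=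
    ((tfae_of_isNoetherianRing_of_isLocalRing_of_isDomain (Y.presheaf.stalk y)).out 5 0).mp h2
  infer_instance

theorem flat_of_cancel {X Y : Scheme.{u}} [IsIntegral Y]
    (hreg : ∀ y : Y, IsRegularLocalRing (Y.presheaf.stalk y)) (hdim : topologicalKrullDim Y ≤ 1)
    (f : X ⟶ Y)
    (h : ∀ (x : X) (a : Y.presheaf.stalk (f.base x)) (b : X.presheaf.stalk x),
      a ≠ 0 → (f.stalkMap x).hom a * b = 0 → b = 0) : Flat f := by
  rw [Flat.iff_flat_stalkMap]
  intro x
  haveI := isBezout_stalk hreg hdim (f.base x)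
  letI := (f.stalkMap x).hom.toAlgebra
  show Module.Flat (Y.presheaf.stalk (f.base x)) (X.presheaf.stalk x)
  rw [Module.Flat.flat_iff_torsion_eq_bot_of_isBezout, eq_bot_iff]
  rintro b ⟨⟨a, ha⟩, hab⟩
  exact h x a b (nonZeroDivisors.ne_zero ha) hab

theorem cancel_of_flat {X Y : Scheme.{u}} [IsIntegral Y] (f : X ⟶ Y) [Flat f]
    (x : X) (a : Y.presheaf.stalk (f.base x)) (b : X.presheaf.stalk x) (ha : a ≠ 0)
    (hab : (f.stalkMap x).hom a * b = 0) : b = 0 := by
  letI := (f.stalkMap x).hom.toAlgebra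
  haveI : Module.Flat (Y.presheaf.stalk (f.base x)) (X.presheaf.stalk x) := Flat.stalkMap f x
  have : b ∈ Submodule.torsion (Y.presheaf.stalk (f.base x)) (X.presheaf.stalk x) :=
    ⟨⟨a, mem_nonZeroDivisors_of_ne_zero ha⟩, hab⟩
  rw [Module.Flat.torsion_eq_bot] at this
  exact this

theorem fromSpecStalk_bot {Y : Scheme.{u}} [IsIntegral Y] (y : Y) :
    (Y.fromSpecStalk y).base ((⟨⊥, Ideal.isPrime_bot⟩ : PrimeSpectrum (Y.presheaf.stalk y)) :
      ↥(Spec (Y.presheaf.stalk y))) = genericPoint Y := by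
  have hη : genericPoint Y ∈ Set.range (Y.fromSpecStalk y).base := by
    change genericPoint Y ∈ Set.range (Y.fromSpecStalk y)
    rw [Scheme.range_fromSpecStalk]
    exact genericPoint_specializes y
  obtain ⟨p, hp⟩ := hη
  have h1 : ((⟨⊥, Ideal.isPrime_bot⟩ : PrimeSpectrum (Y.presheaf.stalk y)) : ↥(Spec (Y.presheaf.stalk y))) ⤳ p :=
    (PrimeSpectrum.le_iff_specializes _ _).1 (bot_le : (⊥ : Ideal _) ≤ _)
  have h2 := h1.map (Y.fromSpecStalk y).continuous
  rw [hp] at h2
  exact h2.antisymm (genericPoint_specializes _) |>.eq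

/-- Image of a generalization, and when it is the generic point. -/
theorem comap_eq_bot_iff {X Y : Scheme.{u}} [IsIntegral Y] (f : X ⟶ Y) (x : X)
    (P : ↥(Spec (X.presheaf.stalk x))) :
    f.base ((X.fromSpecStalk x).base P) = genericPoint Y ↔
      P.asIdeal.comap (f.stalkMap x).hom = ⊥ := by
  have e : f.base ((X.fromSpecStalk x).base P) =
      (Y.fromSpecStalk (f.base x)).base ((Spec.map (f.stalkMap x)).base P) := by
    rw [← Scheme.Hom.comp_apply, ← Scheme.SpecMap_stalkMap_fromSpecStalk]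
    rfl
  rw [e, ← fromSpecStalk_bot (f.base x), (Y.fromSpecStalk (f.base x)).isEmbedding.injective.eq_iff]
  exact ⟨fun h => congrArg PrimeSpectrum.asIdeal h, fun h => PrimeSpectrum.ext h⟩

theorem eq_generic_iff {X Y : Scheme.{u}} [IsIntegral Y] (f : X ⟶ Y) (x : X) :
    f.base x = genericPoint Y ↔ maximalIdeal (Y.presheaf.stalk (f.base x)) = ⊥ := by
  have h := comap_eq_bot_iff f x (closedPoint (X.presheaf.stalk x))
  rw [show (X.fromSpecStalk x).base (closedPoint (X.presheaf.stalk x)) = x from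
    Scheme.fromSpecStalk_closedPoint] at h
  rw [h]
  show (maximalIdeal (X.presheaf.stalk x)).comap (f.stalkMap x).hom = ⊥ ↔ _
  rw [IsLocalRing.maximalIdeal_comap]

end FlatDedLib
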