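import Groth.Agent.CommAlgDim.Regular
import Groth.Agent.AssPointLib.Basic
import Groth.Agent.QCohLib.QCoh
import Mathlib

/-!
# Flatness over regular local rings of dimension at most one, through associated points
-/

set_option autoImplicit false
set_option linter.all false
universe u
open CategoryTheory AlgebraicGeometry IsLocalRing

namespace FlatDedLib

theorem isBezout_of_regular (A : Type u) [CommRing A] [IsRegularLocalRing A]
    (h : ringKrullDim A ≤ 1) : IsBezout A := by
  haveI := CommAlgDim.isDomain_of_isRegularLocalRing A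
  have h2 : Module.finrank (ResidueField A) (CotangentSpace A) ≤ 1 := by
    have h' := IsRegularLocalRing.spanFinrank_maximalIdeal (R := A)
    rw [spanFinrank_maximalIdeal_eq_finrank_cotangentSpace] at h'
    rw [← h'] at h
    exact_mod_cast h
  haveI : IsPrincipalIdealRing A :=
    ((tfae_of_isNoetherianRing_of_isLocalRing_of_isDomain A).out 5 0).mp h2
  infer_instance

theorem isWeakAssPoint_fromSpecStalk {X : Scheme.{u}} (x : X) {P : Ideal (X.presheaf.stalk x)}
    (hP : IsAssociatedPrime P (X.presheaf.stalk x)) :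
    Curv2.IsWeakAssPoint (Coh.structureModule X)
      ((X.fromSpecStalk x).base ((⟨P, hP.isPrime⟩ : PrimeSpectrum (X.presheaf.stalk x)) :
        ↥(Spec (X.presheaf.stalk x)))) := by
  haveI : Coh.IsQCoh (Coh.structureModule X) := QCohLib.isQCoh_unit
  obtain ⟨hPp, b', hb'⟩ := hP
  let q : ↥(Spec (X.presheaf.stalk x)) := (⟨P, hPp⟩ : PrimeSpectrum (X.presheaf.stalk x))
  obtain ⟨_, ⟨U, hU, rfl⟩, hxU, -⟩ := X.isBasis_affineOpens.exists_subset_of_mem_open
    (Set.mem_univ x) isOpen_univ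
  have e1 : (X.fromSpecStalk x).base q =
      hU.fromSpec.base ((Spec.map (X.presheaf.germ U x hxU)).base q) := by
    rw [← hU.fromSpecStalk_eq_fromSpecStalk hxU]
    rfl
  have hy : (X.fromSpecStalk x).base q ∈ U := by
    rw [e1]
    show _ ∈ (U : Set X)
    rw [← hU.range_fromSpec]; exact ⟨_, rfl⟩
  have e2 : hU.primeIdealOf ⟨(X.fromSpecStalk x).base q, hy⟩ =
      (Spec.map (X.presheaf.germ U x hxU)).base q :=
    hU.fromSpec.isOpenEmbedding.injective ((hU.fromSpec_primeIdealOf ⟨_, hy⟩).trans e1)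
  have e3 : (hU.primeIdealOf ⟨(X.fromSpecStalk x).base q, hy⟩).asIdeal =
      P.comap (X.presheaf.germ U x hxU).hom := by rw [e2]; rfl
  letI alg := X.presheaf.algebra_section_stalk (⟨x, hxU⟩ : U)
  haveI hloc : IsLocalization.AtPrime (X.presheaf.stalk x) (hU.primeIdealOf ⟨x, hxU⟩).asIdeal :=
    hU.isLocalization_stalk ⟨x, hxU⟩
  obtain ⟨s, d, hsd⟩ := IsLocalization.exists_mk'_eq
    (hU.primeIdealOf ⟨x, hxU⟩).asIdeal.primeCompl b'
  have hPmax : P ≤ maximalIdeal _ := IsLocalRing.le_maximalIdeal hPp.ne_top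
  show Curv2.IsWeakAssPoint (Coh.structureModule X) ((X.fromSpecStalk x).base q)
  rw [AssPointLib.weak_iff hU hy]
  refine ⟨(s : Γ(X, U)), ?_⟩
  rw [e3]
  refine AssPointLib.minimal_iff.2 ⟨fun r hr => ?_, fun r hr => ?_⟩
  · have hr' : r * s = 0 := (AssPointLib.mem_ann _).1 hr
    show algebraMap Γ(X, U) (X.presheaf.stalk x) r ∈ P
    rw [hb']
    refine Ideal.le_radical (Submodule.mem_colon_singleton.2 ((Submodule.mem_bot _).2 ?_))
    rw [smul_eq_mul, ← hsd, IsLocalization.mk'_eq_mul_mk'_one, ← mul_assoc, ← map_mul, hr',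
      map_zero, zero_mul]
  · have hr2 : algebraMap Γ(X, U) (X.presheaf.stalk x) r ∈ P := hr
    rw [hb'] at hr2
    obtain ⟨n, hn⟩ := hr2
    have hn2 := (Submodule.mem_bot _).1 (Submodule.mem_colon_singleton.1 hn)
    rw [smul_eq_mul, ← hsd, ← map_pow, IsLocalization.mul_mk'_eq_mk'_of_mul,
      IsLocalization.mk'_eq_zero_iff] at hn2
    obtain ⟨⟨t, ht⟩, hts⟩ := hn2
    refine ⟨t, fun htQ => ht ?_, n, (AssPointLib.mem_ann _).2 ?_⟩
    · rw [← IsLocalization.AtPrime.comap_maximalIdeal (X.presheaf.stalk x)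
        (hU.primeIdealOf ⟨x, hxU⟩).asIdeal]
      exact hPmax htQ
    · show t * r ^ n * s = 0
      rw [mul_assoc]; exact hts

theorem flat_of_assPoints {X Y : Scheme.{u}} [IsLocallyNoetherian X] (f : X ⟶ Y)
    (hreg : ∀ y : Y, IsRegularLocalRing (Y.presheaf.stalk y))
    (hdim : ∀ y : Y, ringKrullDim (Y.presheaf.stalk y) ≤ 1)
    (hass : ∀ x : X, Curv2.IsAssPoint (Coh.structureModule X) x →
      ringKrullDim (Y.presheaf.stalk (f.base x)) = 0) : Flat f := by
  rw [Flat.iff_flat_stalkMap]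
  intro x
  haveI := hreg (f.base x)
  haveI := CommAlgDim.isDomain_of_isRegularLocalRing (Y.presheaf.stalk (f.base x))
  haveI := isBezout_of_regular _ (hdim (f.base x))
  letI := (f.stalkMap x).hom.toAlgebra
  show Module.Flat (Y.presheaf.stalk (f.base x)) (X.presheaf.stalk x)
  rw [Module.Flat.flat_iff_torsion_eq_bot_of_isBezout, eq_bot_iff]
  rintro b ⟨⟨a, ha⟩, hab⟩
  rw [Submodule.mem_bot]
  by_contra hb
  obtain ⟨P, hP, hle⟩ := exists_le_isAssociatedPrime_of_isNoetherianRing (X.presheaf.stalk x) b hb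
  have h0 := hass _ ((AssPointLib.assPoint_iff_weak _ _).2 (isWeakAssPoint_fromSpecStalk x hP))
  let q : ↥(Spec (X.presheaf.stalk x)) := (⟨P, hP.isPrime⟩ : PrimeSpectrum (X.presheaf.stalk x))
  let p : ↥(Spec (Y.presheaf.stalk (f.base x))) := (Spec.map (f.stalkMap x)).base q
  have e : f.base ((X.fromSpecStalk x).base q) = (Y.fromSpecStalk (f.base x)).base p := by
    rw [← Scheme.Hom.comp_apply, ← Scheme.SpecMap_stalkMap_fromSpecStalk]
    rfl
  have haP : a ∈ p.asIdeal :=
    hle (Submodule.mem_colon_singleton.2 ((Submodule.mem_bot _).2 hab))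
  rw [show (X.fromSpecStalk x).base ((⟨P, hP.isPrime⟩ : PrimeSpectrum (X.presheaf.stalk x)) :
    ↥(Spec (X.presheaf.stalk x))) = (X.fromSpecStalk x).base q from rfl, e] at h0
  let y' := (Y.fromSpecStalk (f.base x)).base p
  let o : ↥(Spec (Y.presheaf.stalk (f.base x))) :=
    (⟨⊥, Ideal.isPrime_bot⟩ : PrimeSpectrum (Y.presheaf.stalk (f.base x)))
  have h1 : (Y.fromSpecStalk (f.base x)).base o ⤳ y' :=
    ((PrimeSpectrum.le_iff_specializes _ _).1 (bot_le : (⊥ : Ideal _) ≤ p.asIdeal)).map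
      (Y.fromSpecStalk (f.base x)).continuous
  have h2 : (Y.fromSpecStalk (f.base x)).base o ∈ Set.range (Y.fromSpecStalk y') := by
    rw [Scheme.range_fromSpecStalk]; exact h1
  obtain ⟨r, hr⟩ := h2
  haveI : Ring.KrullDimLE 0 (Y.presheaf.stalk y') := Ring.krullDimLE_iff.2 h0.le
  have hrc : r = closedPoint _ :=
    PrimeSpectrum.ext (IsLocalRing.eq_maximalIdeal r.isPrime.isMaximal')
  rw [hrc, Scheme.fromSpecStalk_closedPoint] at hr
  have h3 : p = o := (Y.fromSpecStalk (f.base x)).isEmbedding.injective hr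
  rw [h3] at haP
  exact nonZeroDivisors.ne_zero ha (Ideal.mem_bot.1 haP)

end FlatDedLib
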